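import Groth.Prelude.Def_AbDual
import Groth.Agent.Lib.Seesaw26.TrivOpen
import Groth.Agent.Lib.Seesaw26.Descent
import Groth.Agent.Lib.ProjPic26.Relative

/-!
# Representing schemes of the relative Picard functor are separated
-/

universe u

set_option backward.isDefEq.respectTransparency false
set_option maxHeartbeats 400000

open AlgebraicGeometry CategoryTheory CategoryTheory.Limits TopologicalSpace Opposite

noncomputable section

namespace GrothLib.PicSep26

theorem cl_eq_iff {Y : Scheme.{u}} {L M : Y.Modules} : PicF.cl L = PicF.cl M ↔ Nonempty (L ≅ M) := by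
  refine ⟨fun h => ?_, fun h => Quot.sound h⟩
  have hr : Equivalence fun L L' : Y.Modules => Nonempty (L ≅ L') :=
    ⟨fun _ => ⟨Iso.refl _⟩, fun ⟨e⟩ => ⟨e.symm⟩, fun ⟨e⟩ ⟨e'⟩ => ⟨e ≪≫ e'⟩⟩
  exact hr.eqvGen_iff.mp (Quot.eqvGen_exact h)

theorem exists_mem_range {T : Scheme.{u}} {R : Presieve T} (hR : R ∈ Scheme.fppfPrecoverage T) (x : T) :
    ∃ (U : Scheme.{u}) (u : U ⟶ T), R u ∧ Flat u ∧ LocallyOfFinitePresentation u ∧ ∃ a, u a = x := by
  obtain ⟨ι, Y, g, rfl⟩ := R.exists_eq_ofArrows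
  obtain ⟨h1, h2⟩ := (Scheme.ofArrows_mem_precoverage_iff _).mp hR
  obtain ⟨i, hi⟩ := h1 x
  exact ⟨Y i, g i, ⟨i⟩, (h2 i).1, (h2 i).2, hi⟩

variable {X S : Scheme.{u}} (f : X ⟶ S)

theorem isPullback_XTmap {T' T : Over S} (g : T' ⟶ T) :
    IsPullback (PicF.XTmap f g) (PicF.XTproj f T') (PicF.XTproj f T) g.left := by
  refine IsPullback.of_right ?_ (pullback.lift_snd _ _ _) (IsPullback.of_hasPullback f T.hom)
  rw [show PicF.XTmap f g ≫ pullback.fst f T.hom = pullback.fst f T'.hom from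
    (pullback.lift_fst _ _ _).trans (Category.comp_id _), Over.w g]
  exact IsPullback.of_hasPullback f T'.hom

variable [IsProper f] [Flat f] [LocallyOfFinitePresentation f] [GeometricallyIntegral f]

instance (T : Over S) : IsProper (PicF.XTproj f T) := inferInstanceAs (IsProper (pullback.snd f T.hom))
instance (T : Over S) : Flat (PicF.XTproj f T) := inferInstanceAs (Flat (pullback.snd f T.hom))
instance (T : Over S) : LocallyOfFinitePresentation (PicF.XTproj f T) :=
  inferInstanceAs (LocallyOfFinitePresentation (pullback.snd f T.hom))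
instance (T : Over S) : GeometricallyIntegral (PicF.XTproj f T) :=
  inferInstanceAs (GeometricallyIntegral (pullback.snd f T.hom))

/-- Triviality over a field descends along field extensions. -/
theorem iso_of_extension {k K : Type u} [Field k] [Field K] (T : Over S) (a : Spec (CommRingCat.of k) ⟶ T.left)
    (e : Spec (CommRingCat.of K) ⟶ Spec (CommRingCat.of k))
    {L : (PicF.XT f (AbDual.ovr T a)).Modules} (hL : PicF.IsInvertible L)
    (h : Cube.pull (PicF.XTmap f (AbDual.ovrHom (AbDual.ovr T a) e)) (Cube.clsMod hL) = 1) :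
    Cube.clsMod hL = 1 := by
  let p := PicF.XTproj f (AbDual.ovr T a)
  obtain ⟨φ, rfl⟩ := Spec.map_surjective e
  haveI : Flat (Spec.map φ) := by
    rw [HasRingHomProperty.Spec_iff (P := @Flat)]
    letI : Algebra k K := φ.hom.toAlgebra
    show (algebraMap k K).Flat
    rw [RingHom.flat_algebraMap_iff]
    infer_instance
  haveI : Surjective (Spec.map φ) := ⟨fun y => ⟨Classical.arbitrary _, Subsingleton.elim _ y⟩⟩
  have hp := Seesaw26.bijective_app_of_invertible p
    (Seesaw26.invertible_push_structure p (Seesaw26.h0_of_geometricallyIntegral p))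
  have hsq := isPullback_XTmap f (AbDual.ovrHom (AbDual.ovr T a) (Spec.map φ))
  let θ := hsq.isoPullback
  have h1 : Cube.pull (pullback.fst p (Spec.map φ)) (Cube.clsMod hL) = 1 := by
    have := congrArg (Cube.pull θ.inv) h
    rwa [map_one, Cube.pull_comp, show θ.inv ≫ PicF.XTmap f (AbDual.ovrHom (AbDual.ovr T a) (Spec.map φ)) =
      pullback.fst p (Spec.map φ) from hsq.isoPullback_inv_fst] at this
  have hO := Euler.isInvertible_structure (X := Spec (CommRingCat.of K))
  have hO' : Cube.clsMod hO = 1 := (Cube.clsMod_eq_one_iff hO).2 ⟨Iso.refl _⟩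
  obtain ⟨e₀⟩ := (Cube.clsMod_eq_iff (Ample.isInvertible_pullback (pullback.fst p (Spec.map φ)) hL)
    (Ample.isInvertible_pullback (pullback.snd p (Spec.map φ)) hO)).1
    (by rw [Cube.clsMod_pullback _ hL, Cube.clsMod_pullback _ hO, h1, hO', map_one])
  obtain ⟨N, hN, ⟨i⟩⟩ := Seesaw26.exists_base_of_flat_baseChange p hp (Spec.map φ) L hL _ hO e₀
  rw [show Cube.clsMod hL = Cube.clsMod (Ample.isInvertible_pullback p hN) from (Cube.clsMod_eq_iff _ _).2 ⟨i⟩,
    Cube.clsMod_pullback _ hN, ProjPic26.pic_spec_field_eq_one k (Cube.clsMod hN), map_one]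

variable {P : Over S} {φ : ∀ T : Over S, PicF.Cl (PicF.XT f T) → (T ⟶ P)}

/-- Two classes over a field define the same point exactly if they are equal. -/
theorem eq_iff_over_field (hP : AbDual.IsRelPicK Scheme.fppfPrecoverage f P φ) {k : Type u} [Field k]
    (T : Over S) (a : Spec (CommRingCat.of k) ⟶ T.left) {L L' : (PicF.XT f (AbDual.ovr T a)).Modules}
    (hL : PicF.IsInvertible L) (hL' : PicF.IsInvertible L') :
    φ _ (PicF.cl L) = φ _ (PicF.cl L') ↔ Nonempty (L ≅ L') := by
  refine ⟨fun h => ?_, fun h => by rw [cl_eq_iff.2 h]⟩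
  obtain ⟨R, hR, hRu⟩ := hP.locallyInjective _ _ _ ⟨L, rfl, hL⟩ ⟨L', rfl, hL'⟩ h
  obtain ⟨x⟩ := (inferInstance : Nonempty (Spec (CommRingCat.of k)))
  obtain ⟨U, u, hu, -, -, y, -⟩ := exists_mem_range hR x
  have h1 := hRu u hu
  obtain ⟨i⟩ := cl_eq_iff.1 h1
  let ψ := AbDual.ovrHom (AbDual.ovr T a) u
  let e : Spec (CommRingCat.of (U.residueField y)) ⟶ Spec (CommRingCat.of k) := U.fromSpecResidueField y ≫ u
  let s : AbDual.ovr (AbDual.ovr T a) e ⟶ AbDual.ovr (AbDual.ovr T a) u :=
    Over.homMk (U.fromSpecResidueField y) (by simp [e])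
  have hfac : PicF.XTmap f (AbDual.ovrHom (AbDual.ovr T a) e) = PicF.XTmap f s ≫ PicF.XTmap f ψ := by
    refine pullback.hom_ext ?_ ?_
    · simp [PicF.XTmap, s, ψ]
    · simp [PicF.XTmap, s, ψ, e]
  have hcl : Cube.pull (PicF.XTmap f (AbDual.ovrHom (AbDual.ovr T a) e)) (Cube.clsMod hL) =
      Cube.pull (PicF.XTmap f (AbDual.ovrHom (AbDual.ovr T a) e)) (Cube.clsMod hL') := by
    rw [hfac, ← Cube.pull_comp, ← Cube.pull_comp, ← Cube.clsMod_pullback _ hL, ← Cube.clsMod_pullback _ hL']
    exact congrArg _ ((Cube.clsMod_eq_iff _ _).2 ⟨i⟩)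
  obtain ⟨c, ⟨ec⟩⟩ := Ample.exists_cocycle hL'
  have hc' : Cube.clsMod hL' = Cube.cls c := Cube.clsMod_eq hL' ec
  let M := CohB1.tensorMod L ((Cube.inv c).twist 1)
  have hM : PicF.IsInvertible M := Ample.isInvertible_tensorMod hL ((Cube.inv c).isInvertible_twist 1)
  have hMcls : Cube.clsMod hM = Cube.clsMod hL * (Cube.clsMod hL')⁻¹ := by
    rw [Cube.clsMod_tensorMod hL ((Cube.inv c).isInvertible_twist 1),
      Cube.clsMod_eq ((Cube.inv c).isInvertible_twist 1) (Iso.refl _), hc']
    rfl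
  refine (Cube.clsMod_eq_iff hL hL').1 (eq_of_mul_inv_eq_one ?_)
  rw [← hMcls]
  exact iso_of_extension f T a e hM (by rw [hMcls, map_mul, map_inv, hcl, mul_inv_cancel])

theorem isSeparated (hP : AbDual.IsRelPicK Scheme.fppfPrecoverage f P φ) : IsSeparated P.hom := by
  let Δ := pullback.diagonal P.hom
  suffices hcl : IsClosed (Set.range Δ.base) by
    exact ⟨IsClosedImmersion.of_isPreimmersion Δ hcl⟩
  let T : Over S := Over.mk (pullback.fst P.hom P.hom ≫ P.hom)
  let p₁ : T ⟶ P := Over.homMk (pullback.fst P.hom P.hom) rfl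
  let p₂ : T ⟶ P := Over.homMk (pullback.snd P.hom P.hom) pullback.condition.symm
  -- locally both points come from classes
  have hloc : ∀ x : T.left, ∃ (U : Scheme.{u}) (v : U ⟶ T.left), Flat v ∧ LocallyOfFinitePresentation v ∧
      x ∈ Set.range v ∧ ∃ (L L' : (PicF.XT f (AbDual.ovr T v)).Modules), PicF.IsInvertible L ∧ PicF.IsInvertible L' ∧
        φ _ (PicF.cl L) = AbDual.ovrHom T v ≫ p₁ ∧ φ _ (PicF.cl L') = AbDual.ovrHom T v ≫ p₂ := by
    intro x
    obtain ⟨R, hR, hRu⟩ := hP.locallySurjective T p₁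
    obtain ⟨U, u, hu, hf1, hf2, y, hy⟩ := exists_mem_range hR x
    obtain ⟨c, ⟨L, rfl, hL⟩, hLc⟩ := hRu u hu
    obtain ⟨R', hR', hRu'⟩ := hP.locallySurjective (AbDual.ovr T u) (AbDual.ovrHom T u ≫ p₂)
    obtain ⟨V, w, hw, hg1, hg2, z, hz⟩ := exists_mem_range hR' y
    obtain ⟨c', ⟨L', rfl, hL'⟩, hLc'⟩ := hRu' w hw
    let q : AbDual.ovr T (w ≫ u) ⟶ AbDual.ovr T u := Over.homMk w (Category.assoc _ _ _).symm
    let q' : AbDual.ovr T (w ≫ u) ⟶ AbDual.ovr (AbDual.ovr T u) w := Over.homMk (𝟙 V) (by simp)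
    refine ⟨V, w ≫ u, inferInstance, inferInstance, ⟨z, by
      rw [Scheme.Hom.comp_apply]
      exact (congrArg _ hz).trans hy⟩, _, _,
      Ample.isInvertible_pullback (PicF.XTmap f q) hL, Ample.isInvertible_pullback (PicF.XTmap f q') hL', ?_, ?_⟩
    · refine (hP.natural _ _ q (PicF.cl L) ⟨L, rfl, hL⟩).trans ?_
      rw [hLc]
      exact Over.OverMorphism.ext (by simp [q, p₁])
    · refine (hP.natural _ _ q' (PicF.cl L') ⟨L', rfl, hL'⟩).trans ?_
      rw [hLc']
      exact Over.OverMorphism.ext (by simp [q', p₂])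
  choose U v hv₁ hv₂ hxv L L' hL hL' hφ hφ' using hloc
  rw [← isOpen_compl_iff, isOpen_iff_forall_mem_open]
  intro x hx
  haveI := hv₁ x
  haveI := hv₂ x
  -- the preimage of the diagonal in a member of the cover is closed
  suffices hc : IsClosed ((v x).base ⁻¹' Set.range Δ.base) by
    refine ⟨(v x).base '' ((v x).base ⁻¹' Set.range Δ.base)ᶜ, ?_, (v x).isOpenMap _ hc.isOpen_compl, ?_⟩
    · rintro _ ⟨b, hb, rfl⟩; exact hb
    · obtain ⟨b, hb⟩ := hxv x
      exact ⟨b, fun h => hx (hb ▸ h), hb⟩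
  obtain ⟨c, ⟨ec⟩⟩ := Ample.exists_cocycle (hL' x)
  let M := CohB1.tensorMod (L x) ((Cube.inv c).twist 1)
  have hM : PicF.IsInvertible M := Ample.isInvertible_tensorMod (hL x) ((Cube.inv c).isInvertible_twist 1)
  have hMcls : Cube.clsMod hM = Cube.clsMod (hL x) * (Cube.clsMod (hL' x))⁻¹ := by
    rw [Cube.clsMod_tensorMod (hL x) ((Cube.inv c).isInvertible_twist 1),
      Cube.clsMod_eq ((Cube.inv c).isInvertible_twist 1) (Iso.refl _), Cube.clsMod_eq (hL' x) ec]
    rfl
  let π := PicF.XTproj f (AbDual.ovr T (v x))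
  have key : (v x).base ⁻¹' Set.range Δ.base =
      {ξ | Nonempty ((Scheme.Modules.pullback (π.fiberι ξ)).obj M ≅ Coh.structureModule (π.fiber ξ))} := by
    ext ξ
    let e := (U x).fromSpecResidueField ξ
    let h := AbDual.ovrHom (AbDual.ovr T (v x)) e
    have hsq := isPullback_XTmap f h
    let θ : PicF.XT f (AbDual.ovr (AbDual.ovr T (v x)) e) ≅ π.fiber ξ := hsq.isoPullback
    have hθ : θ.hom ≫ π.fiberι ξ = PicF.XTmap f h := hsq.isoPullback_hom_fst
    have step1 : Nonempty ((Scheme.Modules.pullback (π.fiberι ξ)).obj M ≅ Coh.structureModule (π.fiber ξ)) ↔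
        Nonempty ((Scheme.Modules.pullback (PicF.XTmap f h)).obj (L x) ≅ (Scheme.Modules.pullback (PicF.XTmap f h)).obj (L' x)) := by
      rw [← Cube.clsMod_eq_one_iff (Ample.isInvertible_pullback _ hM), Cube.clsMod_pullback _ hM,
        ← Cube.clsMod_eq_iff (Ample.isInvertible_pullback _ (hL x)) (Ample.isInvertible_pullback _ (hL' x)),
        Cube.clsMod_pullback _ (hL x), Cube.clsMod_pullback _ (hL' x), ← hθ, ← Cube.pull_comp, ← Cube.pull_comp,
        hMcls]
      constructor
      · intro h1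
        rw [map_mul, map_inv] at h1
        exact congrArg (Cube.pull θ.hom) (mul_inv_eq_one.mp h1)
      · intro h1
        have h2 := congrArg (Cube.pull θ.inv) h1
        simp only [Cube.pull_comp, Iso.inv_hom_id_assoc, Iso.inv_hom_id, Category.id_comp] at h2
        rw [map_mul, map_inv, h2, mul_inv_cancel]
    refine Iff.trans ?_ step1.symm
    rw [← eq_iff_over_field f hP (AbDual.ovr T (v x)) e
      (Ample.isInvertible_pullback (PicF.XTmap f h) (hL x)) (Ample.isInvertible_pullback (PicF.XTmap f h) (hL' x)),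
      show φ _ (PicF.cl ((Scheme.Modules.pullback (PicF.XTmap f h)).obj (L x))) = h ≫ φ _ (PicF.cl (L x)) from
        hP.natural _ _ h (PicF.cl (L x)) ⟨_, rfl, hL x⟩,
      show φ _ (PicF.cl ((Scheme.Modules.pullback (PicF.XTmap f h)).obj (L' x))) = h ≫ φ _ (PicF.cl (L' x)) from
        hP.natural _ _ h (PicF.cl (L' x)) ⟨_, rfl, hL' x⟩, hφ, hφ']
    constructor
    · rintro ⟨z, hz⟩
      -- the residue field point factors through the diagonal
      refine Over.OverMorphism.ext ?_
      show e ≫ v x ≫ pullback.fst P.hom P.hom = e ≫ v x ≫ pullback.snd P.hom P.hom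
      have h1 : e ≫ v x = Spec.map ((v x).residueFieldMap ξ) ≫ T.left.fromSpecResidueField (v x ξ) :=
        ((v x).SpecMap_residueFieldMap_fromSpecResidueField ξ).symm
      suffices h2 : T.left.fromSpecResidueField (v x ξ) ≫ pullback.fst P.hom P.hom =
          T.left.fromSpecResidueField (v x ξ) ≫ pullback.snd P.hom P.hom by
        rw [← Category.assoc, ← Category.assoc, h1, Category.assoc, Category.assoc, h2]
      rw [← hz]
      haveI : IsIso (Δ.residueFieldMap z) := by
        rw [ConcreteCategory.isIso_iff_bijective]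
        refine ⟨RingHom.injective _, fun a => ?_⟩
        obtain ⟨b, rfl⟩ := IsLocalRing.residue_surjective a
        obtain ⟨c', rfl⟩ := Δ.stalkMap_surjective z b
        exact ⟨IsLocalRing.residue _ c', rfl⟩
      rw [← cancel_epi (Spec.map (Δ.residueFieldMap z))]
      erw [Δ.SpecMap_residueFieldMap_fromSpecResidueField_assoc, Δ.SpecMap_residueFieldMap_fromSpecResidueField_assoc]
      rw [pullback.diagonal_fst, pullback.diagonal_snd]
    · intro h1
      have h2 : e ≫ v x ≫ pullback.fst P.hom P.hom = e ≫ v x ≫ pullback.snd P.hom P.hom := congrArg CommaMorphism.left h1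
      obtain ⟨b⟩ := (inferInstance : Nonempty (Spec ((U x).residueField ξ)))
      refine ⟨(e ≫ v x ≫ pullback.fst P.hom P.hom) b, ?_⟩
      have h3 : (e ≫ v x ≫ pullback.fst P.hom P.hom) ≫ Δ = e ≫ v x := by
        refine pullback.hom_ext ?_ ?_
        · rw [Category.assoc, pullback.diagonal_fst, Category.comp_id, Category.assoc]
        · rw [Category.assoc, pullback.diagonal_snd, Category.comp_id, Category.assoc, h2]
      show ((e ≫ v x ≫ pullback.fst P.hom P.hom) ≫ Δ) b = _
      rw [h3]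
      simp [e]
      rfl
  rw [key]
  exact Seesaw26.isClosed_trivial_fibres π (Seesaw26.isIntegral_fiber π) M hM

end GrothLib.PicSep26
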